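import Groth.Agent.ProjClosedImmLib.Stalk
import Groth.Agent.CohBCLib.SecTensor
import Groth.Agent.KFlatLib.AffinePull
import Groth.Agent.QCohLib.AffineFinite
import Mathlib.LinearAlgebra.TensorProduct.Tower

/-!
# The projection formula for affine morphisms
-/

set_option autoImplicit false
set_option linter.style.haveILetI false
set_option backward.isDefEq.respectTransparency false
set_option backward.isDefEq.respectTransparency.types false

universe u

open CategoryTheory CategoryTheory.Limits AlgebraicGeometry TopologicalSpace Opposite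
open scoped TensorProduct
open KFlatLib CohBCLib

namespace AffProjFormLib

variable {X Y : Scheme.{u}} (f : X ⟶ Y) [IsAffineHom f]

/-- `f_* a ⊗ b ≅ f_*(a ⊗ f^* b)` for an affine `f` and quasi-coherent modules. -/
theorem isIso_projR (a : X.Modules) (b : Y.Modules) [Coh.IsQCoh a] [Coh.IsQCoh b]
    [Coh.IsQCoh (pf f a)] [Coh.IsQCoh (tens (pf f a) b)] [Coh.IsQCoh (tens a (pb f b))] :
    IsIso (ProjClosedImmLib.projR f a b) := by
  refine QCohLib.isIso_of_bijective_affine _ fun U hU => ?_
  have hV := hU.preimage f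
  haveI := KFlatLib.isQCoh_pullback f b
  let V := f ⁻¹ᵁ U
  letI : Algebra Γ(Y, U) Γ(X, V) := (f.app U).hom.toAlgebra
  letI : Module Γ(Y, U) Γ(pb f b, V) := Module.compHom _ (f.app U).hom
  haveI : IsScalarTower Γ(Y, U) Γ(X, V) Γ(pb f b, V) := IsScalarTower.of_algebraMap_smul fun _ _ => rfl
  letI : Module Γ(Y, U) Γ(a, V) := Module.compHom _ (f.app U).hom
  haveI : IsScalarTower Γ(Y, U) Γ(X, V) Γ(a, V) := IsScalarTower.of_algebraMap_smul fun _ _ => rfl
  let ψ : Γ(b, U) →ₗ[Γ(Y, U)] Γ(pb f b, V) :=
    { toFun := fun m => puSec f m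
      map_add' := fun m m' => map_add (((Scheme.Modules.pullbackPushforwardAdjunction f).unit.app b).app U).hom m m'
      map_smul' := fun r m => puSec_smul f r m }
  have hψ : ∀ m, ψ m = puSecLE f b (le_refl V) m := fun m => by
    rw [puSecLE_apply]
    exact (congr($((pb f b).presheaf.map_id (op V)) (puSec f m))).symm
  have hbc : IsBaseChange Γ(X, V) ψ := KFlatLib.isBaseChange_puSec (g := f) b hU hV (le_refl V)
    (fun r => by rw [← Scheme.Hom.app_eq_appLE]; rfl) ψ hψ
  let c : Γ(a, V) ⊗[Γ(X, V)] Γ(pb f b, V) ≃+ Γ(a, V) ⊗[Γ(Y, U)] Γ(b, U) :=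
    ((TensorProduct.congr (LinearEquiv.refl Γ(X, V) Γ(a, V)) hbc.equiv.symm).toAddEquiv).trans
      (TensorProduct.AlgebraTensorModule.cancelBaseChange Γ(Y, U) Γ(X, V) Γ(X, V) Γ(a, V) Γ(b, U)).toAddEquiv
  have hsurj := secTens_bijective (pf f a) b hU
  refine (Function.Bijective.of_comp_iff _ hsurj).mp ?_
  have key : ∀ t, (ProjClosedImmLib.projR f a b).app U (secTens (pf f a) b U t) =
      secTens a (pb f b) V (c.symm (show Γ(a, V) ⊗[Γ(Y, U)] Γ(b, U) from t)) := by
    intro t
    induction t using TensorProduct.induction_on with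
    | zero =>
      refine (congrArg _ (map_zero (secTens (pf f a) b U))).trans
        ((map_zero ((ProjClosedImmLib.projR f a b).app U).hom).trans ?_)
      exact ((congrArg _ (map_zero _)).trans (map_zero (secTens a (pb f b) V))).symm
    | tmul s m =>
      refine (ProjClosedImmLib.projR_shTm f a b s m).trans ?_
      have : c.symm ((show Γ(a, V) from s) ⊗ₜ[Γ(Y, U)] m) = (show Γ(a, V) from s) ⊗ₜ[Γ(X, V)] ψ m := by
        simp [c, IsBaseChange.equiv_tmul]
      exact (congrArg (secTens a (pb f b) V) this).symm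
    | add x y hx hy =>
      refine (congrArg _ (map_add (secTens (pf f a) b U) x y)).trans
        ((map_add ((ProjClosedImmLib.projR f a b).app U).hom _ _).trans ?_)
      refine (congr_arg₂ (fun p q => p + q) hx hy).trans ?_
      exact ((congrArg _ (map_add _ x y)).trans (map_add (secTens a (pb f b) V) _ _)).symm
  have : ((ProjClosedImmLib.projR f a b).app U ∘ secTens (pf f a) b U) =
      secTens a (pb f b) V ∘ c.symm := funext key
  rw [this]
  exact (secTens_bijective a (pb f b) hV).comp c.symm.bijective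

end AffProjFormLib
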